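import Groth.Agent.MultTypeLib.ConjNilLift
import Groth.Agent.CompletePts.Basic
import Groth.Agent.S8384
import Groth.Agent.GrpSchLib.HomUnitLocus
import Groth.Agent.TorsionCent.Util

/-!
# Homomorphisms agreeing on the closed fibre over a complete local ring are conjugate
-/

set_option autoImplicit false
set_option linter.style.haveILetI false

universe u

open CategoryTheory CategoryTheory.Limits MonoidalCategory CartesianMonoidalCategory MonObj AlgebraicGeometry

noncomputable section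

namespace Groth.Agent.HomComplete

open MultTypeLib MultTypeLib.GenLift MultTypeLib.GenMultType MultTypeLib.FixedLift

set_option backward.isDefEq.respectTransparency.types false

variable {A : Type u} [CommRing A] [IsLocalRing A]

/-- The points of the thickenings. -/
abbrev tl (A : Type u) [CommRing A] [IsLocalRing A] (n : ℕ) :
    Spec (CommRingCat.of (A ⧸ IsLocalRing.maximalIdeal A ^ n)) ⟶ Spec (CommRingCat.of A) :=
  Spec.map (CommRingCat.ofHom (Ideal.Quotient.mk (IsLocalRing.maximalIdeal A ^ n)))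

/-- The transition between thickenings. -/
abbrev tr (A : Type u) [CommRing A] [IsLocalRing A] (n : ℕ) :
    A ⧸ IsLocalRing.maximalIdeal A ^ (n + 1) →+* A ⧸ IsLocalRing.maximalIdeal A ^ n :=
  Ideal.Quotient.factor (Ideal.pow_le_pow_right (I := IsLocalRing.maximalIdeal A) (Nat.le_succ n))

theorem tr_tl (n : ℕ) : Spec.map (CommRingCat.ofHom (tr A n)) ≫ tl A (n + 1) = tl A n := by
  rw [← Spec.map_comp, ← CommRingCat.ofHom_comp, Ideal.Quotient.factor_comp_mk]

variable [IsNoetherianRing A] [IsAdicComplete (IsLocalRing.maximalIdeal A) A]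

set_option maxHeartbeats 1600000 in
/-- Two homomorphisms from a finite group of multiplicative type to a smooth group agreeing on the closed fibre are
conjugate by a point congruent to the unit. -/
theorem exists_conj {M G : Over (Spec (CommRingCat.of A))} [GrpObj M] [GrpObj G] [IsFinite M.hom] [Smooth G.hom]
    (hM : SGA3x.IsMultTypeFT M) (u v : M ⟶ G) [IsMonHom u] [IsMonHom v]
    (huv : (Over.pullback (Spec.map (CommRingCat.ofHom (Ideal.Quotient.mk (IsLocalRing.maximalIdeal A))))).map u =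
      (Over.pullback (Spec.map (CommRingCat.ofHom (Ideal.Quotient.mk (IsLocalRing.maximalIdeal A))))).map v) :
    ∃ g : 𝟙_ (Over (Spec (CommRingCat.of A))) ⟶ G,
      toUnit (Over.mk (Spec.map (CommRingCat.ofHom (Ideal.Quotient.mk (IsLocalRing.maximalIdeal A))))) ≫ g = 1 ∧
      ∀ (X : Over (Spec (CommRingCat.of A))) (x : X ⟶ M),
        x ≫ v = (toUnit X ≫ g) * (x ≫ u) * (toUnit X ≫ g)⁻¹ := by
  classical
  let m := IsLocalRing.maximalIdeal A
  let ι₀ := Spec.map (CommRingCat.ofHom (Ideal.Quotient.mk m))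
  let a := conjAction v u
  -- the first level
  have h₁ : FixPt a (1 : Over.mk (tl A 1) ⟶ G) := by
    rw [fixPt_conj_iff]
    intro T q h
    rw [MonObj.comp_one, _root_.one_mul, inv_one, _root_.mul_one]
    let j : A ⧸ m →+* A ⧸ m ^ 1 := Ideal.Quotient.factor (pow_one m).ge
    have hj : Spec.map (CommRingCat.ofHom j) ≫ ι₀ = tl A 1 := by
      rw [← Spec.map_comp, ← CommRingCat.ofHom_comp, Ideal.Quotient.factor_comp_mk]
    let Y : Over (Spec (CommRingCat.of (A ⧸ m))) := Over.mk (q.left ≫ Spec.map (CommRingCat.ofHom j))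
    have hY : Y.hom ≫ ι₀ = T.hom := by
      show (q.left ≫ _) ≫ ι₀ = T.hom
      rw [Category.assoc, hj]
      exact Over.w q
    let k : T ⟶ (Over.map ι₀).obj Y := Over.homMk (𝟙 _) ((Category.id_comp _).trans hY)
    let k' : (Over.map ι₀).obj Y ⟶ T := Over.homMk (𝟙 _) ((Category.id_comp _).trans hY.symm)
    have hk : k ≫ k' = 𝟙 T := Over.OverMorphism.ext (Category.id_comp _)
    obtain ⟨h', hh'⟩ := (DSPtsLib.theta_bijective (g := ι₀) (Y := Y) (H := M)).2 (k' ≫ h)
    have e := congrArg (fun z => k ≫ DSPtsLib.theta ι₀ (h' ≫ z)) huv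
    have hz : ∀ w : M ⟶ G, k ≫ DSPtsLib.theta ι₀ (h' ≫ (Over.pullback ι₀).map w) = h ≫ w := fun w => by
      rw [TorsionCent.theta_map', hh', ← Category.assoc, ← Category.assoc, hk, Category.id_comp]
    exact ((hz u).symm.trans (e.trans (hz v))).symm
  -- the tower
  have hstep : ∀ n, ∀ g : {g : Over.mk (tl A (n + 1)) ⟶ G // FixPt a g},
      ∃ g' : {g : Over.mk (tl A (n + 2)) ⟶ G // FixPt a g},
        Spec.map (CommRingCat.ofHom (tr A (n + 1))) ≫ g'.1.left = g.1.left := fun n g => by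
    have hn : IsNilpotent (RingHom.ker (tr A (n + 1))) := by
      refine ⟨2, ?_⟩
      rw [Ideal.Quotient.factor_ker, Ideal.zero_eq_bot, ← Ideal.map_pow, Ideal.map_eq_bot_iff_le_ker, Ideal.mk_ker,
        ← pow_mul]
      exact Ideal.pow_le_pow_right (by omega)
    obtain ⟨x, hx, hxF⟩ := exists_fixed_lift a (of_multTypeFT hM) (tl A (n + 2)) (tr A (n + 1))
      (Ideal.Quotient.factor_surjective _) hn (overEq (tr_tl (n + 1)) ≫ g.1) (fixPt_comp a g.2 _)
    exact ⟨⟨x, hxF⟩, (congrArg CommaMorphism.left hx).trans (Category.id_comp _)⟩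
  choose nxt hnxt using hstep
  obtain ⟨g, hg1, hg⟩ : ∃ g : ∀ n, {g : Over.mk (tl A (n + 1)) ⟶ G // FixPt a g}, (g 0).1 = 1 ∧
      ∀ n, Spec.map (CommRingCat.ofHom (tr A (n + 1))) ≫ (g (n + 1)).1.left = (g n).1.left :=
    ⟨fun n => Nat.rec (motive := fun n => {g : Over.mk (tl A (n + 1)) ⟶ G // FixPt a g}) ⟨1, h₁⟩ nxt n, rfl,
      fun n => hnxt n _⟩
  obtain ⟨f, hf⟩ := (S8384.result A G.left).2 (fun n => Spec.map (CommRingCat.ofHom (tr A n)) ≫ (g n).1.left)
    fun n => congrArg (Spec.map (CommRingCat.ofHom (tr A n)) ≫ ·) (hg n)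
  have hfl : ∀ n, tl A (n + 1) ≫ f = (g n).1.left := fun n => (hf (n + 1)).trans (hg n)
  have hfG : f ≫ G.hom = 𝟙 (Spec (CommRingCat.of A)) := (S8384.result A _).1 _ _ fun n => by
    rw [← Category.assoc]
    show (tl A n ≫ f) ≫ G.hom = tl A n ≫ 𝟙 _
    rw [hf n, Category.comp_id, Category.assoc]
    exact (congrArg (_ ≫ ·) (Over.w (g n).1)).trans (tr_tl n)
  let p : 𝟙_ (Over (Spec (CommRingCat.of A))) ⟶ G := Over.homMk f hfG
  have hp : ∀ n, toUnit (Over.mk (tl A (n + 1))) ≫ p = (g n).1 := fun n =>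
    Over.OverMorphism.ext (hfl n)
  refine ⟨p, ?_, ?_⟩
  · let j : A ⧸ m ^ 1 →+* A ⧸ m := Ideal.Quotient.factor (pow_one m).le
    let k : Over.mk ι₀ ⟶ Over.mk (tl A 1) := Over.homMk (Spec.map (CommRingCat.ofHom j)) (by
      show _ ≫ tl A 1 = ι₀
      rw [← Spec.map_comp, ← CommRingCat.ofHom_comp, Ideal.Quotient.factor_comp_mk])
    rw [← toUnit_unique (k ≫ toUnit _) (toUnit _), Category.assoc, hp, hg1, MonObj.comp_one]
  · suffices h : v = (toUnit M ≫ p) * u * (toUnit M ≫ p)⁻¹ by
      intro X x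
      conv_lhs => rw [h]
      rw [MonObj.comp_mul, MonObj.comp_mul, GrpObj.comp_inv, ← Category.assoc, toUnit_unique (x ≫ toUnit M) (toUnit X)]
    refine CompletePts.ext_of_levels _ _ fun n => ?_
    let L : Over (Spec (CommRingCat.of A)) := Over.mk (pullback.fst M.hom (tl A (n + 1)) ≫ M.hom)
    let l : L ⟶ M := Over.homMk (pullback.fst _ _) rfl
    let q : L ⟶ Over.mk (tl A (n + 1)) := Over.homMk (pullback.snd _ _) pullback.condition.symm
    have h := (fixPt_conj_iff v u (g n).1).mp (g n).2 L q l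
    rw [← hp n, ← Category.assoc, toUnit_unique (q ≫ toUnit _) (toUnit L)] at h
    have h' : l ≫ v = l ≫ ((toUnit M ≫ p) * u * (toUnit M ≫ p)⁻¹) := by
      rw [h, MonObj.comp_mul, MonObj.comp_mul, GrpObj.comp_inv, ← Category.assoc, toUnit_unique (l ≫ toUnit M) (toUnit L)]
    exact congrArg CommaMorphism.left h'

end Groth.Agent.HomComplete
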