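import Groth.Agent.MultTypeLib.BaseChangeLift

/-!
# Homomorphisms from the reduction, as points

A homomorphism over a closed subscheme is a point of the target with values in the reduced Hopf algebra, and
conversely a morphism restricting to that point restricts to the homomorphism.
-/

set_option autoImplicit false
universe u
open CategoryTheory MonObj AlgebraicGeometry

noncomputable section

namespace Groth.Agent.HomComplete

open CategoryTheory.Limits MonoidalCategory CartesianMonoidalCategory GrpObj TensorProduct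
open Groth.Agent.GrpSchLib.AffineHopf
open MultTypeLib MultTypeLib.FixedLift MultTypeLib.PointAverage MultTypeLib.BaseChangeLift

variable {R : Type u} [CommRing R]

set_option maxHeartbeats 1600000 in
/-- A homomorphism modulo an ideal gives a homomorphism point, which characterises it. -/
theorem exists_homMod (I : Ideal R) (A : Type u) [CommRing A] [HopfAlgebra R A] (X : Over (Spec (CommRingCat.of R))) [GrpObj X]
    (f₀ : Red.bc (Spec.map (CommRingCat.ofHom (Ideal.Quotient.mk I))) (sp R A) ⟶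
      Red.bc (Spec.map (CommRingCat.ofHom (Ideal.Quotient.mk I))) X) [IsMonHom f₀] :
    ∃ φ₀ : OT (𝟙 (Spec (CommRingCat.of R))) (A ⧸ JT I A) ⟶ X, HomMod (𝟙 (Spec (CommRingCat.of R))) I φ₀ ∧
      ∀ f : sp R A ⟶ X, spMap (qT I A) ≫ f = em' (A ⧸ JT I A) ≫ φ₀ →
        (Over.pullback (Spec.map (CommRingCat.ofHom (Ideal.Quotient.mk I)))).map f = f₀ := by
  classical
  let q := Spec.map (CommRingCat.ofHom (Ideal.Quotient.mk I))
  haveI : IsMonHom (M := (Over.pullback q).obj (sp R A)) (N := (Over.pullback q).obj X) f₀ := ‹IsMonHom f₀›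
  -- points over the closed subscheme
  let Y : ∀ (T : Type u) [CommRing T] [Algebra R T] (_ : R ⧸ I →ₐ[R] T), Over (Spec (CommRingCat.of (R ⧸ I))) :=
    fun T _ _ io => Over.mk (Spec.map (CommRingCat.ofHom io.toRingHom))
  have hY : ∀ (T : Type u) [CommRing T] [Algebra R T] (io : R ⧸ I →ₐ[R] T),
      Spec.map (CommRingCat.ofHom io.toRingHom) ≫ q = (sp R T).hom := fun T _ _ io => by
    show Spec.map _ ≫ Spec.map _ = Spec.map (CommRingCat.ofHom (algebraMap R T))
    rw [← Spec.map_comp, ← CommRingCat.ofHom_comp, ← io.comp_algebraMap]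
    rfl
  let nu : ∀ (T : Type u) [CommRing T] [Algebra R T] (io : R ⧸ I →ₐ[R] T),
      (Over.map q).obj (Y T io) ⟶ sp R T := fun T _ _ io =>
    Over.homMk (𝟙 _) ((Category.id_comp _).trans (hY T io).symm)
  let nu' : ∀ (T : Type u) [CommRing T] [Algebra R T] (io : R ⧸ I →ₐ[R] T),
      sp R T ⟶ (Over.map q).obj (Y T io) := fun T _ _ io =>
    Over.homMk (𝟙 _) ((Category.id_comp _).trans (hY T io))
  let Q := A ⧸ JT I A
  let ioQ : R ⧸ I →ₐ[R] Q := Ideal.Quotient.liftₐ I (Algebra.ofId R Q) fun r hr => by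
    show algebraMap R Q r = 0
    rw [IsScalarTower.algebraMap_apply R A Q, Ideal.Quotient.algebraMap_eq]
    exact Ideal.Quotient.eq_zero_iff_mem.2 (Ideal.mem_map_of_mem _ hr)
  obtain ⟨pQ, hpQ⟩ := (DSPtsLib.theta_bijective (H := sp R A) (Y := Y Q ioQ) q).2
    (nu Q ioQ ≫ spMap (qT I A))
  let φ₀ : OT (𝟙 _) Q ⟶ X := em Q ≫ nu' Q ioQ ≫ DSPtsLib.theta q (pQ ≫ f₀)
  have h0 : HomMod (𝟙 _) I φ₀ := by
    intro T _ _ u v w huv
    let io : R ⧸ I →ₐ[R] T := u.comp ioQ
    have hio : ∀ z : Q →ₐ[R] T, z.comp ioQ = io := fun z =>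
      Ideal.Quotient.algHom_ext _ (Subsingleton.elim _ _)
    let hm : ∀ z : Q →ₐ[R] T, Y T io ⟶ Y Q ioQ := fun z =>
      Over.homMk (Spec.map (CommRingCat.ofHom z.toRingHom)) (by
        show Spec.map _ ≫ Spec.map _ = Spec.map _
        rw [← Spec.map_comp, ← CommRingCat.ofHom_comp]
        congr 2
        exact congrArg AlgHom.toRingHom (hio z))
    have hmap : ∀ z, (Over.map q).map (hm z) ≫ nu Q ioQ = nu T io ≫ spMap z := fun z =>
      Over.OverMorphism.ext ((Category.comp_id _).trans (Category.id_comp _).symm)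
    have hth : ∀ z, DSPtsLib.theta q (hm z ≫ pQ) = nu T io ≫ spMap (z.comp (qT I A)) := fun z => by
      rw [DSPtsLib.theta_comp, hpQ, ← Category.assoc, hmap, Category.assoc, spMap_comp]
    have hmul : (hm u ≫ pQ) * (hm v ≫ pQ) = hm w ≫ pQ := by
      apply (DSPtsLib.theta_bijective q).injective
      rw [DSPtsLib.theta_mul, hth, hth, hth, ← MonObj.comp_mul, huv, spMap_mul]
      congr 2
      exact AlgHom.ext fun a => by rw [AlgHom.convMul_apply]; rfl
    have e : ∀ z, OTm (𝟙 _) z ≫ φ₀ = em T ≫ nu' T io ≫ DSPtsLib.theta q ((hm z ≫ pQ) ≫ f₀) := fun z => by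
      rw [Category.assoc (hm z), DSPtsLib.theta_comp]
      simp only [φ₀, ← Category.assoc, em_natural]
      congr 1
    rw [e, e, e, ← MonObj.comp_mul, ← MonObj.comp_mul, ← DSPtsLib.theta_mul, ← MonObj.mul_comp (hm u ≫ pQ) (hm v ≫ pQ) f₀, hmul]
  refine ⟨φ₀, h0, fun f hφ => ?_⟩
  haveI : IsIso pQ.left := by
    let κ : (R ⧸ I) ⊗[R] A →ₐ[R] Q := Algebra.TensorProduct.lift ioQ (qT I A) fun _ _ => Commute.all _ _
    have hκl : κ.comp Algebra.TensorProduct.includeLeft = ioQ := AlgHom.ext fun x => by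
      show κ (x ⊗ₜ[R] (1 : A)) = ioQ x
      simp [κ]
    have hκr : κ.comp Algebra.TensorProduct.includeRight = qT I A := AlgHom.ext fun x => by
      show κ ((1 : R ⧸ I) ⊗ₜ[R] x) = qT I A x
      simp [κ]
      rfl
    let κ' : Q →ₐ[R] (R ⧸ I) ⊗[R] A :=
      Ideal.Quotient.liftₐ (JT I A) Algebra.TensorProduct.includeRight fun a ha => by
        have hle : JT I A ≤ RingHom.ker (Algebra.TensorProduct.includeRight : A →ₐ[R] (R ⧸ I) ⊗[R] A).toRingHom := by
          rw [Ideal.map_le_iff_le_comap]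
          intro r hr
          show (1 : R ⧸ I) ⊗ₜ[R] algebraMap R A r = 0
          rw [Algebra.algebraMap_eq_smul_one, ← TensorProduct.smul_tmul, Algebra.smul_def,
            Ideal.Quotient.algebraMap_eq, Ideal.Quotient.eq_zero_iff_mem.2 hr, zero_mul, TensorProduct.zero_tmul]
        exact hle ha
    have h1 : κ.comp κ' = AlgHom.id R Q := AlgHom.ext fun x => by
      obtain ⟨a, rfl⟩ := Ideal.Quotient.mk_surjective x
      exact AlgHom.congr_fun hκr a
    have h2 : κ'.comp κ = AlgHom.id R _ := by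
      refine Algebra.TensorProduct.ext (Ideal.Quotient.algHom_ext _ (Subsingleton.elim _ _)) (AlgHom.ext fun a => ?_)
      show κ' (κ ((1 : R ⧸ I) ⊗ₜ[R] a)) = (1 : R ⧸ I) ⊗ₜ[R] a
      rw [show κ ((1 : R ⧸ I) ⊗ₜ[R] a) = qT I A a from AlgHom.congr_fun hκr a]
      rfl
    let eκ : (R ⧸ I) ⊗[R] A ≃ₐ[R] Q := AlgEquiv.ofAlgHom κ κ' h1 h2
    haveI : IsIso (CommRingCat.ofHom κ.toRingHom) := inferInstanceAs (IsIso eκ.toRingEquiv.toCommRingCatIso.hom)
    have hp : pQ.left = Spec.map (CommRingCat.ofHom κ.toRingHom) ≫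
        (pullbackSymmetry _ _ ≪≫ pullbackSpecIso R (R ⧸ I) A).inv := by
      apply pullback.hom_ext
      · have h := congrArg (fun g => g.left) hpQ
        refine (DSPtsLib.theta_left q pQ).symm.trans (h.trans ?_)
        show 𝟙 _ ≫ Spec.map (CommRingCat.ofHom (qT I A).toRingHom) =
          (Spec.map (CommRingCat.ofHom κ.toRingHom) ≫ (pullbackSpecIso R (R ⧸ I) A).inv ≫
            (pullbackSymmetry (Spec.map (CommRingCat.ofHom (algebraMap R A)))
              (Spec.map (CommRingCat.ofHom (algebraMap R (R ⧸ I))))).inv) ≫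
          pullback.fst (Spec.map (CommRingCat.ofHom (algebraMap R A)))
              (Spec.map (CommRingCat.ofHom (algebraMap R (R ⧸ I))))
        rw [Category.id_comp, Category.assoc, Category.assoc, pullbackSymmetry_inv_comp_fst,
          pullbackSpecIso_inv_snd, ← Spec.map_comp, ← hκr]
        rfl
      · refine (Over.w pQ).trans ?_
        show Spec.map (CommRingCat.ofHom ioQ.toRingHom) =
          (Spec.map (CommRingCat.ofHom κ.toRingHom) ≫ (pullbackSpecIso R (R ⧸ I) A).inv ≫
            (pullbackSymmetry (Spec.map (CommRingCat.ofHom (algebraMap R A)))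
              (Spec.map (CommRingCat.ofHom (algebraMap R (R ⧸ I))))).inv) ≫
          pullback.snd (Spec.map (CommRingCat.ofHom (algebraMap R A)))
              (Spec.map (CommRingCat.ofHom (algebraMap R (R ⧸ I))))
        rw [Category.assoc, Category.assoc, pullbackSymmetry_inv_comp_snd,
          pullbackSpecIso_inv_fst, ← Spec.map_comp, ← hκl]
        rfl
    rw [hp]
    exact IsIso.comp_isIso' inferInstance (Iso.isIso_inv _)
  apply (DSPtsLib.theta_bijective q).injective
  refine Over.OverMorphism.ext ((cancel_epi pQ.left).1 ?_)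
  have h1 : (DSPtsLib.theta q (pQ ≫ (Over.pullback q).map f)).left = (DSPtsLib.theta q (pQ ≫ f₀)).left := by
    have hnat : DSPtsLib.theta q (pQ ≫ (Over.pullback q).map f) = DSPtsLib.theta q pQ ≫ f := by
      apply Over.OverMorphism.ext
      show (pQ.left ≫ ((Over.pullback q).map f).left) ≫ pullback.fst _ _ = (pQ.left ≫ pullback.fst _ _) ≫ f.left
      rw [Category.assoc, Category.assoc]
      congr 1
      exact pullback.lift_fst _ _ _
    rw [hnat, hpQ, Category.assoc]
    show (nu Q ioQ ≫ spMap (qT I A) ≫ f).left = _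
    rw [hφ]
    simp only [φ₀]
    rw [← Category.assoc (em' Q), em'_em, Category.id_comp, ← Category.assoc (nu Q ioQ),
      show nu Q ioQ ≫ nu' Q ioQ = 𝟙 _ from Over.OverMorphism.ext (Category.id_comp _), Category.id_comp]
  rw [DSPtsLib.theta_left, DSPtsLib.theta_left, Over.comp_left, Over.comp_left, Category.assoc, Category.assoc] at h1
  rw [DSPtsLib.theta_left, DSPtsLib.theta_left]
  exact h1

end Groth.Agent.HomComplete
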