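import Groth.Agent.MultTypeLib.PointLift

/-!
# Homomorphism points lift one thickening at a time
-/

set_option autoImplicit false
set_option linter.style.haveILetI false

universe u

open CategoryTheory CategoryTheory.Limits MonoidalCategory CartesianMonoidalCategory MonObj AlgebraicGeometry
open TensorProduct WithConv

noncomputable section

namespace Groth.Agent.HomComplete

open GrpSchLib.AffineHopf MultTypeLib MultTypeLib.FixedLift MultTypeLib.PointAverage MultTypeLib.PointLift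

variable {S : Scheme.{u}} {G : Over S} [GrpObj G]

set_option maxHeartbeats 1600000 in
/-- A homomorphism point modulo `J` lifts modulo a smaller ideal over which `J` is nilpotent. -/
theorem exists_homMod_lift [Smooth G.hom] {B : Type u} [CommRing B] (t : Spec (CommRingCat.of B) ⟶ S)
    (N J : Ideal B) (hNJ : N ≤ J) (hJN : IsNilpotent (J.map (Ideal.Quotient.mk N))) (A : Type u) [CommRing A]
    [HopfAlgebra B A] (hA : SGA3b.IsMultType B A) (φ₀ : OT t (A ⧸ JT J A) ⟶ G) (h0 : HomMod t J φ₀) :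
    ∃ ψ : OT t (A ⧸ JT N A) ⟶ G, HomMod t N ψ ∧
      OTm t (Ideal.Quotient.factorₐ B (Ideal.map_mono hNJ) : A ⧸ JT N A →ₐ[B] A ⧸ JT J A) ≫ ψ = φ₀ := by
  classical
  let J₁ : Ideal (B ⧸ N) := J.map (Ideal.Quotient.mk N)
  let A' := (B ⧸ N) ⊗[B] A
  let iR : A →ₐ[B] A' := Algebra.TensorProduct.includeRight
  -- the reduction over the smaller base
  let θ : A ⧸ JT J A →ₐ[B] A' ⧸ JT J₁ A' :=
    Ideal.Quotient.liftₐ (JT J A) (((qT J₁ A').restrictScalars B).comp iR) fun a ha => by
      have h1 : iR a ∈ JT J₁ A' := by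
        have h2 : JT J A ≤ (JT J₁ A').comap iR.toRingHom := Ideal.map_le_iff_le_comap.2 fun b hb => by
          show iR (algebraMap B A b) ∈ JT J₁ A'
          rw [AlgHom.commutes, IsScalarTower.algebraMap_apply B (B ⧸ N) A']
          exact Ideal.mem_map_of_mem _ (Ideal.mem_map_of_mem _ hb)
        exact h2 ha
      exact Ideal.Quotient.eq_zero_iff_mem.2 h1
  let φ₁₀ : OT (t' t N) (A' ⧸ JT J₁ A') ⟶ G := om t N _ ≫ OTm t θ ≫ φ₀
  have h₁₀ : HomMod (t' t N) J₁ φ₁₀ := by
    intro T _ _ f g h hh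
    letI : Algebra B T := Algebra.compHom T (Ideal.Quotient.mk N)
    haveI : IsScalarTower B (B ⧸ N) T := IsScalarTower.of_algebraMap_eq fun _ => rfl
    have e : ∀ u : A' ⧸ JT J₁ A' →ₐ[B ⧸ N] T, OTm (t' t N) u ≫ φ₁₀ =
        om t N T ≫ OTm t ((u.restrictScalars B).comp θ) ≫ φ₀ := fun u => by
      simp only [φ₁₀, ← Category.assoc, om_natural]
      rw [Category.assoc (om t N T), OTm_comp]
    rw [e, e, e, ← MonObj.comp_mul, h0 T _ _ ((h.restrictScalars B).comp θ)]
    have hθ : ∀ u : A' ⧸ JT J₁ A' →ₐ[B ⧸ N] T, ((u.restrictScalars B).comp θ).comp (qT J A) =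
        ((u.comp (qT J₁ A')).restrictScalars B).comp iR := fun u => AlgHom.ext fun a => rfl
    rw [hθ, hθ, hθ, hh, star_baseChange]
  obtain ⟨φ₁, hφ₁, hh₁⟩ := PointLift.exists_hom_lift (G := G) (t' t N) J₁ hJN A' (isMultType_baseChange (B ⧸ N) hA) φ₁₀ h₁₀
  -- the point modulo `N`
  let A'' := A ⧸ JT N A
  let β : A' →ₐ[B] A'' := Algebra.TensorProduct.lift
    (Ideal.Quotient.liftₐ N (Algebra.ofId B A'') fun b hb => by
      show algebraMap B A'' b = 0
      rw [IsScalarTower.algebraMap_apply B A A'', Ideal.Quotient.algebraMap_eq]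
      exact Ideal.Quotient.eq_zero_iff_mem.2 (Ideal.mem_map_of_mem _ hb))
    (qT N A) fun _ _ => Commute.all _ _
  have hβ : β.comp iR = qT N A := AlgHom.ext fun a => by
    show β ((1 : B ⧸ N) ⊗ₜ[B] a) = qT N A a
    rw [Algebra.TensorProduct.lift_tmul, map_one, _root_.one_mul]
  let ψ : OT t A'' ⟶ G := OTm t β ≫ om' t N A' ≫ φ₁
  have hψ : HomMod t N ψ := by
    intro T _ _ f g h hh
    have hT : ∀ b ∈ N, algebraMap B T b = 0 := fun b hb => by
      rw [← f.commutes, IsScalarTower.algebraMap_apply B A A'', Ideal.Quotient.algebraMap_eq,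
        Ideal.Quotient.eq_zero_iff_mem.2 (Ideal.mem_map_of_mem _ hb), map_zero]
    letI : Algebra (B ⧸ N) T := (Ideal.Quotient.lift N (algebraMap B T) hT).toAlgebra
    haveI : IsScalarTower B (B ⧸ N) T := IsScalarTower.of_algebraMap_eq fun _ => rfl
    let up : (A'' →ₐ[B] T) → (A' →ₐ[B ⧸ N] T) := fun u =>
      { u.comp β with
        commutes' := fun q => by
          obtain ⟨b, rfl⟩ := Ideal.Quotient.mk_surjective q
          show u (β (algebraMap (B ⧸ N) A' (algebraMap B (B ⧸ N) b))) = _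
          rw [← IsScalarTower.algebraMap_apply, AlgHom.commutes, AlgHom.commutes]
          rfl }
    have e : ∀ u : A'' →ₐ[B] T, OTm t u ≫ ψ = om' t N T ≫ OTm (t' t N) (up u) ≫ φ₁ := fun u => by
      simp only [ψ, ← Category.assoc, OTm_comp]
      congr 1
    rw [e, e, e, ← MonObj.comp_mul, hh₁ T (up f) (up g)]
    congr 3
    refine Algebra.TensorProduct.ext' fun q a => ?_
    have h2 : (star (up f) (up g)) (1 ⊗ₜ[B] a) = up h (1 ⊗ₜ[B] a) := by
      have h3 := AlgHom.congr_fun (star_baseChange N (up f) (up g)) a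
      refine h3.trans ?_
      have hu : ∀ u : A'' →ₐ[B] T, ((up u).restrictScalars B).comp Algebra.TensorProduct.includeRight =
          u.comp (qT N A) := fun u => AlgHom.ext fun x => congrArg u (AlgHom.congr_fun hβ x)
      rw [hu, hu, ← hh]
      exact (AlgHom.congr_fun (hu h) a).symm
    rw [show q ⊗ₜ[B] a = q • ((1 : B ⧸ N) ⊗ₜ[B] a) by rw [TensorProduct.smul_tmul', smul_eq_mul, _root_.mul_one],
      map_smul, map_smul, h2]
  refine ⟨ψ, hψ, ?_⟩
  let gam : A'' →ₐ[B] A ⧸ JT J A := Ideal.Quotient.liftₐ (JT N A) (qT J A) fun a ha =>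
    Ideal.Quotient.eq_zero_iff_mem.2 (Ideal.map_mono hNJ ha)
  have hgam : gam.comp (qT N A) = qT J A := AlgHom.ext fun _ => rfl
  let ρ : A' ⧸ JT J₁ A' →ₐ[B] A ⧸ JT J A :=
    Ideal.Quotient.liftₐ (((JT J₁ A'))) (gam.comp β) fun x hx => by
      have h2 : JT J₁ A' ≤ RingHom.ker (gam.comp β).toRingHom := by
        rw [Ideal.map_le_iff_le_comap, Ideal.map_le_iff_le_comap]
        intro b hb
        show gam (β (algebraMap (B ⧸ N) A' (algebraMap B (B ⧸ N) b))) = 0
        rw [← IsScalarTower.algebraMap_apply, AlgHom.commutes, AlgHom.commutes,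
          IsScalarTower.algebraMap_apply B A, Ideal.Quotient.algebraMap_eq]
        exact Ideal.Quotient.eq_zero_iff_mem.2 (Ideal.mem_map_of_mem _ hb)
      exact h2 hx
  have hρθ : ρ.comp θ = AlgHom.id B (A ⧸ JT J A) := AlgHom.ext fun x => by
    obtain ⟨a, rfl⟩ := Ideal.Quotient.mk_surjective x
    show gam (β (iR a)) = _
    exact congrArg gam (AlgHom.congr_fun hβ a)
  have hρ : gam.comp β = ρ.comp ((qT J₁ A').restrictScalars B) := AlgHom.ext fun _ => rfl
  show OTm t gam ≫ ψ = φ₀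
  simp only [ψ, ← Category.assoc, OTm_comp]
  rw [hρ, ← OTm_comp, Category.assoc (OTm t ρ), om'_natural, Category.assoc, Category.assoc, hφ₁]
  simp only [φ₁₀, ← Category.assoc]
  rw [Category.assoc (OTm t ρ), om'_om, Category.comp_id, OTm_comp, hρθ]
  rw [OTm, spMap_id, CategoryTheory.Functor.map_id, Category.id_comp]

end Groth.Agent.HomComplete
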