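import Groth.Agent.HomComplete.Init
import Groth.Agent.HomComplete.Step
import Groth.Agent.S8385
import Groth.Agent.MultTypeLib.SchemeBridge

/-!
# Homomorphisms from finite groups of multiplicative type lift over complete local rings
-/

set_option autoImplicit false
set_option linter.style.haveILetI false

universe u

open CategoryTheory CategoryTheory.Limits MonoidalCategory CartesianMonoidalCategory MonObj AlgebraicGeometry
open TensorProduct

noncomputable section

namespace Groth.Agent.HomComplete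

open GrpSchLib.AffineHopf MultTypeLib MultTypeLib.FixedLift MultTypeLib.PointAverage MultTypeLib.BaseChangeLift

variable {A : Type u} [CommRing A] [IsLocalRing A]

/-- The thickenings of the closed point. -/
def Jn (A : Type u) [CommRing A] [IsLocalRing A] : ℕ → Ideal A
  | 0 => IsLocalRing.maximalIdeal A
  | n + 1 => IsLocalRing.maximalIdeal A ^ (n + 2)

theorem Jn_eq (n : ℕ) : Jn A n = IsLocalRing.maximalIdeal A ^ (n + 1) := by
  cases n with
  | zero => exact (pow_one _).symm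
  | succ n => rfl

theorem Jn_le (n : ℕ) : Jn A n ≤ IsLocalRing.maximalIdeal A ^ n := by
  rw [Jn_eq]
  exact Ideal.pow_le_pow_right (Nat.le_succ n)

theorem Jn_succ_le (n : ℕ) : Jn A (n + 1) ≤ Jn A n := by
  rw [Jn_eq, Jn_eq]
  exact Ideal.pow_le_pow_right (Nat.le_succ _)

theorem isNilpotent_Jn (n : ℕ) : IsNilpotent ((Jn A n).map (Ideal.Quotient.mk (Jn A (n + 1)))) := by
  refine ⟨2, ?_⟩
  rw [Ideal.zero_eq_bot, ← Ideal.map_pow, Ideal.map_eq_bot_iff_le_ker, Ideal.mk_ker, Jn_eq, Jn_eq, ← pow_mul]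
  exact Ideal.pow_le_pow_right (by omega)

/-- A map of algebras induced on the reductions. -/
theorem exists_red {T T' : Type u} [CommRing T] [Algebra A T] [CommRing T'] [Algebra A T'] (i : T →ₐ[A] T')
    (J : Ideal A) : ∃ ib : T ⧸ JT J T →ₐ[A] T' ⧸ JT J T', ib.comp (qT J T) = (qT J T').comp i := by
  refine ⟨Ideal.Quotient.liftₐ (JT J T) ((qT J T').comp i) fun a ha => ?_, AlgHom.ext fun a => rfl⟩
  have hle : JT J T ≤ (JT J T').comap i.toRingHom := Ideal.map_le_iff_le_comap.2 fun b hb => by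
    show i (algebraMap A T b) ∈ JT J T'
    rw [AlgHom.commutes]
    exact Ideal.mem_map_of_mem _ hb
  exact Ideal.Quotient.eq_zero_iff_mem.2 (hle ha)

/-- Compatibility of the members of a family along quotient maps. -/
theorem fac_comp {W : Scheme.{u}} {C : Type u} [CommRing C] {I₁ I₀ I' I : Ideal C} (h₁ : I₁ ≤ I') (h₀ : I₀ ≤ I)
    (h' : I' ≤ I) (h₁₀ : I₁ ≤ I₀) (g : C ⧸ I₁ →+* C ⧸ I₀) (hg : g = Ideal.Quotient.factor h₁₀)
    (a' : Spec (CommRingCat.of (C ⧸ I₁)) ⟶ W) (a : Spec (CommRingCat.of (C ⧸ I₀)) ⟶ W)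
    (ha : Spec.map (CommRingCat.ofHom g) ≫ a' = a) :
    Spec.map (CommRingCat.ofHom (Ideal.Quotient.factor h')) ≫
        Spec.map (CommRingCat.ofHom (Ideal.Quotient.factor h₁)) ≫ a' =
      Spec.map (CommRingCat.ofHom (Ideal.Quotient.factor h₀)) ≫ a := by
  subst hg ha
  rw [← Spec.map_comp_assoc, ← Spec.map_comp_assoc, ← CommRingCat.ofHom_comp, ← CommRingCat.ofHom_comp,
    Ideal.Quotient.factor_comp, Ideal.Quotient.factor_comp]

/-- A member of a family as the restriction of the whole. -/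
theorem fac_eq {W : Scheme.{u}} {C : Type u} [CommRing C] {I₁ I₀ I' : Ideal C} (h₁ : I₁ ≤ I') (h' : I' ≤ I₀)
    (h₁₀ : I₁ ≤ I₀) (g : C ⧸ I₁ →+* C ⧸ I₀) (hg : g = Ideal.Quotient.factor h₁₀)
    (a' : Spec (CommRingCat.of (C ⧸ I₁)) ⟶ W) (a : Spec (CommRingCat.of (C ⧸ I₀)) ⟶ W)
    (ha : Spec.map (CommRingCat.ofHom g) ≫ a' = a) (f : Spec (CommRingCat.of C) ⟶ W)
    (hf : Spec.map (CommRingCat.ofHom (Ideal.Quotient.mk I')) ≫ f =
      Spec.map (CommRingCat.ofHom (Ideal.Quotient.factor h₁)) ≫ a') :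
    Spec.map (CommRingCat.ofHom (Ideal.Quotient.mk I₀)) ≫ f = a := by
  subst hg ha
  rw [← Ideal.Quotient.factor_comp_mk h', CommRingCat.ofHom_comp, Spec.map_comp, Category.assoc, hf,
    ← Spec.map_comp_assoc, ← CommRingCat.ofHom_comp, Ideal.Quotient.factor_comp]

variable [IsNoetherianRing A] [IsAdicComplete (IsLocalRing.maximalIdeal A) A]

set_option maxHeartbeats 1600000 in
/-- Homomorphisms out of a finite group of multiplicative type into a smooth group lift from the closed fibre. -/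
theorem exists_lift_sp (C : Type u) [CommRing C] [HopfAlgebra A C] [Module.Finite A C] (hC : SGA3b.IsMultType A C)
    (X : Over (Spec (CommRingCat.of A))) [GrpObj X] [Smooth X.hom]
    (f₀ : Red.bc (Spec.map (CommRingCat.ofHom (Ideal.Quotient.mk (IsLocalRing.maximalIdeal A)))) (sp A C) ⟶
      Red.bc (Spec.map (CommRingCat.ofHom (Ideal.Quotient.mk (IsLocalRing.maximalIdeal A)))) X) [IsMonHom f₀] :
    ∃ φ : sp A C ⟶ X, IsMonHom φ ∧
      (Over.pullback (Spec.map (CommRingCat.ofHom (Ideal.Quotient.mk (IsLocalRing.maximalIdeal A))))).map φ = f₀ := by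
  classical
  let m := IsLocalRing.maximalIdeal A
  obtain ⟨φ₀, h0, hres⟩ := exists_homMod m C X f₀
  let P : ℕ → Type u := fun n =>
    {a : OT (𝟙 (Spec (CommRingCat.of A))) (C ⧸ JT (Jn A n) C) ⟶ X // HomMod (𝟙 _) (Jn A n) a}
  let gam : ∀ n, C ⧸ JT (Jn A (n + 1)) C →ₐ[A] C ⧸ JT (Jn A n) C := fun n =>
    Ideal.Quotient.factorₐ A (Ideal.map_mono (Jn_succ_le n))
  have hstep : ∀ n (a : P n), ∃ b : P (n + 1), OTm (𝟙 _) (gam n) ≫ b.1 = a.1 := fun n a => by
    obtain ⟨ψ, hψ, hψ'⟩ := exists_homMod_lift (G := X) (𝟙 _) (Jn A (n + 1)) (Jn A n) (Jn_succ_le n)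
      (isNilpotent_Jn n) C hC a.1 a.2
    exact ⟨⟨ψ, hψ⟩, hψ'⟩
  choose nxt hnxt using hstep
  obtain ⟨a, ha0, ha⟩ : ∃ a : ∀ n, P n, (a 0).1 = φ₀ ∧
      ∀ n, Spec.map (CommRingCat.ofHom (gam n).toRingHom) ≫ (a (n + 1)).1.left = (a n).1.left :=
    ⟨fun n => Nat.rec (motive := fun n => P n) ⟨φ₀, h0⟩ nxt n, rfl,
      fun n => congrArg CommaMorphism.left (hnxt n _)⟩
  have hle : ∀ n, JT (Jn A n) C ≤ Ideal.map (algebraMap A C) (m ^ n) := fun n => Ideal.map_mono (Jn_le n)
  have hwa : ∀ n, (a n).1.left ≫ X.hom = Spec.map (CommRingCat.ofHom (algebraMap A (C ⧸ JT (Jn A n) C))) :=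
    fun n => (Over.w (a n).1).trans (Category.comp_id _)
  -- the compatible family
  let u : (n : ℕ) → (Spec (CommRingCat.of (C ⧸ (Ideal.map (algebraMap A C) (m ^ n)))) ⟶ X.left) := fun n =>
    Spec.map (CommRingCat.ofHom (Ideal.Quotient.factor (hle n))) ≫ (a n).1.left
  have hu₁ : ∀ n, u n ≫ X.hom = Spec.map (CommRingCat.ofHom
      ((Ideal.Quotient.mk (Ideal.map (algebraMap A C) (m ^ n))).comp (algebraMap A C))) := fun n => by
    refine (Category.assoc _ _ _).trans ((congrArg (_ ≫ ·) (hwa n)).trans ?_)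
    refine (Spec.map_comp _ _).symm.trans ?_
    rfl
  have hu₂ : ∀ n : ℕ, Spec.map (CommRingCat.ofHom (Ideal.Quotient.factor
      (Ideal.map_mono (Ideal.pow_le_pow_right (I := m) (Nat.le_succ n)) :
        Ideal.map (algebraMap A C) (m ^ (n + 1)) ≤ Ideal.map (algebraMap A C) (m ^ n)))) ≫ u (n + 1) = u n := fun n => by
    exact fac_comp (hle (n + 1)) (hle n) _ (Ideal.map_mono (Jn_succ_le n)) _ rfl _ _ (ha n)
  obtain ⟨f, hf₁, hf₂⟩ := (S8385.result A C X).2 u hu₁ hu₂
  let φ : sp A C ⟶ X := Over.homMk f hf₁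
  have hq : ∀ n, spMap (qT (Jn A n) C) ≫ φ = em' (C ⧸ JT (Jn A n) C) ≫ (a n).1 := fun n => by
    apply Over.OverMorphism.ext
    show Spec.map (CommRingCat.ofHom (Ideal.Quotient.mk (JT (Jn A n) C))) ≫ f = 𝟙 _ ≫ (a n).1.left
    rw [Category.id_comp]
    have hle' : Ideal.map (algebraMap A C) (m ^ (n + 1)) ≤ JT (Jn A n) C := by
      rw [← Jn_eq]
    exact fac_eq (hle (n + 1)) hle' (Ideal.map_mono (Jn_succ_le n)) _ rfl _ _ (ha n) f (hf₂ (n + 1))
  -- multiplicativity
  let T := C ⊗[A] C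
  let iL : C →ₐ[A] T := Algebra.TensorProduct.includeLeft
  let iR : C →ₐ[A] T := Algebra.TensorProduct.includeRight
  have hΔ : star iL iR = Bialgebra.comulAlgHom A C := AlgHom.ext fun c => by
    show Algebra.TensorProduct.lift iL iR (fun _ _ => Commute.all _ _) (Bialgebra.comulAlgHom A C c) = _
    generalize Bialgebra.comulAlgHom A C c = z
    induction z using TensorProduct.induction_on with
    | zero => simp
    | add p p' hp hp' => simp only [map_add, hp, hp']
    | tmul p p' =>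
      rw [Algebra.TensorProduct.lift_tmul]
      show (p ⊗ₜ[A] (1 : C)) * ((1 : C) ⊗ₜ[A] p') = p ⊗ₜ[A] p'
      rw [Algebra.TensorProduct.tmul_mul_tmul, _root_.mul_one, _root_.one_mul]
  have hkey : spMap (Bialgebra.comulAlgHom A C) ≫ φ = (spMap iL ≫ φ) * (spMap iR ≫ φ) := by
    have hlev : ∀ n, spMap (qT (Jn A n) T) ≫ spMap (Bialgebra.comulAlgHom A C) ≫ φ =
        spMap (qT (Jn A n) T) ≫ ((spMap iL ≫ φ) * (spMap iR ≫ φ)) := fun n => by
      obtain ⟨lb, hlb⟩ := exists_red iL (Jn A n)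
      obtain ⟨rb, hrb⟩ := exists_red iR (Jn A n)
      obtain ⟨db, hdb⟩ := exists_red (Bialgebra.comulAlgHom A C) (Jn A n)
      have e : ∀ (i : C →ₐ[A] T) (ib : C ⧸ JT (Jn A n) C →ₐ[A] T ⧸ JT (Jn A n) T),
          ib.comp (qT (Jn A n) C) = (qT (Jn A n) T).comp i →
          spMap (qT (Jn A n) T) ≫ spMap i ≫ φ = em' (T ⧸ JT (Jn A n) T) ≫ OTm (𝟙 _) ib ≫ (a n).1 := fun i ib h => by
        rw [← Category.assoc, spMap_comp, ← h, ← spMap_comp, Category.assoc, hq, ← Category.assoc, em'_natural,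
          Category.assoc]
      rw [MonObj.comp_mul, e _ _ hlb, e _ _ hrb, e _ _ hdb, ← MonObj.comp_mul,
        (a n).2 _ lb rb db (by rw [hdb, hlb, hrb, ← comp_star, hΔ])]
    refine Over.OverMorphism.ext ((S8385.result A T X).1 _ _
      (Over.w (spMap (Bialgebra.comulAlgHom A C) ≫ φ)) (Over.w ((spMap iL ≫ φ) * (spMap iR ≫ φ))) fun n => ?_)
    have hle' : JT (Jn A n) T ≤ Ideal.map (algebraMap A T) (m ^ n) := Ideal.map_mono (Jn_le n)
    have e : Ideal.Quotient.mk (Ideal.map (algebraMap A T) (m ^ n)) =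
        (Ideal.Quotient.factor hle').comp (Ideal.Quotient.mk (JT (Jn A n) T)) := rfl
    rw [e, CommRingCat.ofHom_comp, Spec.map_comp]
    exact (Category.assoc _ _ _).trans ((congrArg (_ ≫ ·) (congrArg CommaMorphism.left (hlev n))).trans
      (Category.assoc _ _ _).symm)
  let U : sp A T ⟶ sp A C ⊗ sp A C := CartesianMonoidalCategory.lift (spMap iL) (spMap iR)
  haveI : IsIso U := by
    have hU : U.left = (pullbackSpecIso A C C).inv := by
      apply pullback.hom_ext
      · exact (congrArg (fun g => g.left) (lift_fst (spMap iL) (spMap iR))).trans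
          (pullbackSpecIso_inv_fst A C C).symm
      · exact (congrArg (fun g => g.left) (lift_snd (spMap iL) (spMap iR))).trans
          (pullbackSpecIso_inv_snd A C C).symm
    haveI : IsIso U.left := by rw [hU]; exact Iso.isIso_inv _
    haveI : IsIso ((Over.forget _).map U) := ‹IsIso U.left›
    exact isIso_of_reflects_iso U (Over.forget _)
  have hmul : μ[sp A C] ≫ φ = (φ ⊗ₘ φ) ≫ μ[X] := by
    rw [← cancel_epi U, ← Category.assoc, ← Category.assoc U (φ ⊗ₘ φ), lift_map, ← Hom.mul_def,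
      ← Hom.mul_def, ← FixedSmooth.spMap_comul]
    exact hkey
  have hone : η[sp A C] ≫ φ = η[X] := by
    have hm : ∀ x y : 𝟙_ (Over (Spec (CommRingCat.of A))) ⟶ sp A C, (x * y) ≫ φ = (x ≫ φ) * (y ≫ φ) := fun x y => by
      rw [Hom.mul_def, Hom.mul_def, Category.assoc, hmul, lift_map_assoc]
    have e := hm 1 1
    rw [_root_.one_mul, left_eq_mul] at e
    rw [Hom.one_def, Hom.one_def, toUnit_unique (toUnit (𝟙_ (Over (Spec (CommRingCat.of A))))) (𝟙 _),
      Category.id_comp, Category.id_comp] at e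
    exact e
  exact ⟨φ, { one_hom := hone, mul_hom := hmul }, hres φ ((hq 0).trans (congrArg (em' _ ≫ ·) ha0))⟩

/-- Homomorphisms out of a finite group scheme of multiplicative type lift from the closed fibre. -/
theorem exists_lift {M G : Over (Spec (CommRingCat.of A))} [GrpObj M] [GrpObj G] [IsFinite M.hom] [Smooth G.hom]
    (hM : SGA3x.IsMultTypeFT M)
    (u₀ : Red.bc (Spec.map (CommRingCat.ofHom (Ideal.Quotient.mk (IsLocalRing.maximalIdeal A)))) M ⟶
      Red.bc (Spec.map (CommRingCat.ofHom (Ideal.Quotient.mk (IsLocalRing.maximalIdeal A)))) G) [IsMonHom u₀] :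
    ∃ u : M ⟶ G, IsMonHom u ∧
      (Over.pullback (Spec.map (CommRingCat.ofHom (Ideal.Quotient.mk (IsLocalRing.maximalIdeal A))))).map u = u₀ := by
  obtain ⟨C, _, _, hC, ⟨e⟩⟩ := SchemeBridge.exists_hopf_multType M hM
  let eh : sp A C ⟶ M := e.hom.hom.hom
  let eh' : M ⟶ sp A C := e.inv.hom.hom
  haveI : IsMonHom eh := e.hom.hom.isMonHom_hom
  haveI : IsMonHom eh' := e.inv.hom.isMonHom_hom
  have heh : eh' ≫ eh = 𝟙 M := congrArg (fun h => h.hom.hom) e.inv_hom_id
  have heh' : eh ≫ eh' = 𝟙 _ := congrArg (fun h => h.hom.hom) e.hom_inv_id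
  haveI : IsIso eh.left := ⟨eh'.left, congrArg CommaMorphism.left heh', congrArg CommaMorphism.left heh⟩
  have hfin : IsFinite (sp A C).hom := by
    rw [← Over.w eh]
    infer_instance
  haveI : Module.Finite A C := RingHom.finite_algebraMap.mp ((AlgebraicGeometry.IsFinite.SpecMap_iff _).mp hfin)
  haveI : IsMonHom ((Over.pullback (Spec.map (CommRingCat.ofHom (Ideal.Quotient.mk (IsLocalRing.maximalIdeal A))))).map eh) :=
    inferInstance
  obtain ⟨φ, hφ, hφ₀⟩ := exists_lift_sp C hC G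
    ((Over.pullback (Spec.map (CommRingCat.ofHom (Ideal.Quotient.mk (IsLocalRing.maximalIdeal A))))).map eh ≫ u₀)
  haveI := hφ
  refine ⟨eh' ≫ φ, inferInstance, ?_⟩
  rw [Functor.map_comp, hφ₀, ← Category.assoc, ← Functor.map_comp, heh,
    CategoryTheory.Functor.map_id, Category.id_comp]

end Groth.Agent.HomComplete
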